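import Groth.Agent.H17.DiagTensor.Derived
import Groth.Agent.H16Derived.ProjFormula.ClosedImm
import Groth.Agent.H8Props.ClosedBaseChange

/-!
# The external tensor product of structure sheaves of closed subschemes
-/

set_option autoImplicit false
set_option linter.style.haveILetI false
set_option maxHeartbeats 1000000
set_option synthInstance.maxHeartbeats 400000

universe u

open CategoryTheory CategoryTheory.Limits AlgebraicGeometry TensorProduct
open Groth.Agent.H16Derived Groth.Agent.H16Derived.KFlat Groth.Agent.H16Derived.KFlat.Stalk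

attribute [local instance] HasDerivedCategory.standard
attribute [local instance] Groth.Agent.H06Mod.stalkAlgebra

namespace Groth.Agent.H17.DiagTensor

variable {X Y : Scheme.{u}}

/-- Tensor products with a killed module are killed. -/
theorem killed_tensorRightMod (j : X ⟶ Y) [IsClosedImmersion j] {A : Y.Modules} (hA : ProjFormula.Killed j A)
    (B : Y.Modules) : ProjFormula.Killed j ((DCoh.tensorRightMod A).obj B) := by
  refine ⟨fun x r hr a => ?_, fun y hy => ?_⟩
  · let e := ((TorTest.tensorStalkIso (j.base x) A).app B).toLinearEquiv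
    refine e.injective ((e.map_smul r a).trans (Eq.trans ?_ e.map_zero.symm))
    generalize e a = t
    induction t using TensorProduct.induction_on with
    | zero => exact smul_zero r
    | add a b ha hb => exact (smul_add r a b).trans (by rw [ha, hb]; exact zero_add _)
    | tmul b a =>
      have h0 : r • a = 0 := hA.smul_eq_zero x r hr a
      refine (TensorProduct.tmul_smul r b a).symm.trans ?_
      rw [h0]
      exact TensorProduct.tmul_zero _ b
  · let e := ((TorTest.tensorStalkIso y A).app B).toLinearEquiv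
    refine subsingleton_of_forall_eq 0 fun a => e.injective (Eq.trans ?_ e.map_zero.symm)
    generalize e a = t
    induction t using TensorProduct.induction_on with
    | zero => rfl
    | add a b ha hb => rw [ha, hb]; exact zero_add _
    | tmul b a =>
      rw [show a = 0 from @Subsingleton.elim _ (hA.subsingleton y hy) a 0]
      exact TensorProduct.tmul_zero _ b

theorem killed_iso (j : X ⟶ Y) [IsClosedImmersion j] {A B : Y.Modules} (e : A ≅ B) (hA : ProjFormula.Killed j A) :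
    ProjFormula.Killed j B := by
  refine ⟨fun x r hr b => ?_, fun y hy => ?_⟩
  · let l := ((DerSch.stalkFunctor Y (j.base x)).mapIso e).toLinearEquiv
    obtain ⟨a, rfl⟩ := l.surjective b
    exact (l.map_smul r a).symm.trans ((congrArg l (hA.smul_eq_zero x r hr a)).trans l.map_zero)
  · haveI := hA.subsingleton y hy
    exact @Equiv.subsingleton _ _ ((DerSch.stalkFunctor Y y).mapIso e).toLinearEquiv.symm.toEquiv this

/-- Direct image of the structure module along an isomorphism. -/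
theorem nonempty_push_structure_of_isIso (e : X ⟶ Y) [IsIso e] :
    Nonempty ((Scheme.Modules.pushforward e).obj (Coh.structureModule X) ≅ Coh.structureModule Y) := by
  have hk : ProjFormula.Killed e (Coh.structureModule Y) := by
    refine ⟨fun x r hr a => ?_, fun y hy => absurd (e.surjective y) hy⟩
    have : r = 0 := (ConcreteCategory.bijective_of_isIso (e.stalkMap x)).1 (hr.trans (map_zero _).symm)
    rw [this, zero_smul]
  haveI := ProjFormula.isIso_unit_of_killed e hk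
  exact ⟨(Scheme.Modules.pushforward e).mapIso (structurePullbackIso e).symm ≪≫
    (@asIso _ _ _ _ ((ProjFormula.adj e).unit.app (Coh.structureModule Y)) this).symm⟩

/-- The pullback of the structure sheaf of a closed subscheme. -/
theorem nonempty_pullback_push {Z Z' Y' : Scheme.{u}} {i : Z ⟶ Y} [IsClosedImmersion i] {q : Y' ⟶ Y}
    {g : Z' ⟶ Z} {i' : Z' ⟶ Y'} (H : IsPullback g i' i q) :
    Nonempty ((Scheme.Modules.pullback q).obj ((Scheme.Modules.pushforward i).obj (Coh.structureModule Z)) ≅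
      (Scheme.Modules.pushforward i').obj (Coh.structureModule Z')) :=
  ⟨(H8Props.ClosedBC.baseChangeIso H).app _ ≪≫
    (Scheme.Modules.pushforward i').mapIso (structurePullbackIso g)⟩

/-- A fibre product as an intersection. -/
theorem exists_isIso {S Y₁ Y₂ P Q₁ Q₂ R T : Scheme.{u}} {f : X ⟶ S} {i₁ : Y₁ ⟶ X} {i₂ : Y₂ ⟶ X}
    {p₁ p₂ : P ⟶ X} (hP : IsPullback p₁ p₂ f f) {g₁ : Q₁ ⟶ Y₁} {j₁ : Q₁ ⟶ P} (h₁ : IsPullback g₁ j₁ i₁ p₁)
    {g₂ : Q₂ ⟶ Y₂} {j₂ : Q₂ ⟶ P} (h₂ : IsPullback g₂ j₂ i₂ p₂) {t₂ : R ⟶ Q₂} {t₁ : R ⟶ Q₁}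
    (h₃ : IsPullback t₂ t₁ j₂ j₁) {u₁ : T ⟶ Y₁} {u₂ : T ⟶ Y₂} (hT : IsPullback u₁ u₂ (i₁ ≫ f) (i₂ ≫ f))
    (m : T ⟶ P) (hm₁ : m ≫ p₁ = u₁ ≫ i₁) (hm₂ : m ≫ p₂ = u₂ ≫ i₂) :
    ∃ a : T ⟶ R, IsIso a ∧ a ≫ t₁ ≫ j₁ = m := by
  let a₁ := h₁.lift u₁ m hm₁.symm
  let a₂ := h₂.lift u₂ m hm₂.symm
  let a := h₃.lift a₂ a₁ (by rw [h₂.lift_snd, h₁.lift_snd])
  have hb₁ : (t₁ ≫ g₁) ≫ i₁ = (t₁ ≫ j₁) ≫ p₁ := by rw [Category.assoc, h₁.w, Category.assoc]
  have hb₂ : (t₂ ≫ g₂) ≫ i₂ = (t₁ ≫ j₁) ≫ p₂ := by rw [Category.assoc, h₂.w, ← Category.assoc, h₃.w]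
  let b := hT.lift (t₁ ≫ g₁) (t₂ ≫ g₂) (by
    rw [← Category.assoc, hb₁, Category.assoc, hP.w, ← Category.assoc _ i₂ f, hb₂, Category.assoc (t₁ ≫ j₁)])
  have ha₁ : a ≫ t₁ = a₁ := h₃.lift_snd _ _ _
  have ha₂ : a ≫ t₂ = a₂ := h₃.lift_fst _ _ _
  have hbu₁ : b ≫ u₁ = t₁ ≫ g₁ := hT.lift_fst _ _ _
  have hbu₂ : b ≫ u₂ = t₂ ≫ g₂ := hT.lift_snd _ _ _
  have hbm : b ≫ m = t₁ ≫ j₁ := by
    apply hP.hom_ext
    · rw [Category.assoc, hm₁, ← Category.assoc, hbu₁, hb₁]
    · rw [Category.assoc, hm₂, ← Category.assoc, hbu₂, hb₂]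
  refine ⟨a, ⟨b, ?_, ?_⟩, by rw [← Category.assoc, ha₁, h₁.lift_snd]⟩
  · apply hT.hom_ext
    · rw [Category.assoc, hbu₁, ← Category.assoc, ha₁, h₁.lift_fst, Category.id_comp]
    · rw [Category.assoc, hbu₂, ← Category.assoc, ha₂, h₂.lift_fst, Category.id_comp]
  · apply h₃.hom_ext
    · apply h₂.hom_ext
      · rw [Category.assoc b a, ha₂, Category.assoc, h₂.lift_fst, hbu₂, Category.id_comp]
      · rw [Category.assoc b a, ha₂, Category.assoc, h₂.lift_snd, hbm, Category.id_comp, h₃.w]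
    · apply h₁.hom_ext
      · rw [Category.assoc b a, ha₁, Category.assoc, h₁.lift_fst, hbu₁, Category.id_comp]
      · rw [Category.assoc b a, ha₁, Category.assoc, h₁.lift_snd, hbm, Category.id_comp]

/-- The external product of two closed subschemes. -/
theorem nonempty_box {S Y₁ Y₂ : Scheme.{u}} (f : X ⟶ S) (i₁ : Y₁ ⟶ X) (i₂ : Y₂ ⟶ X)
    [IsClosedImmersion i₁] [IsClosedImmersion i₂] (m : pullback (i₁ ≫ f) (i₂ ≫ f) ⟶ pullback f f)
    (hm₁ : m ≫ pullback.fst f f = pullback.fst (i₁ ≫ f) (i₂ ≫ f) ≫ i₁)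
    (hm₂ : m ≫ pullback.snd f f = pullback.snd (i₁ ≫ f) (i₂ ≫ f) ≫ i₂) :
    Nonempty ((DCoh.tensorRightMod ((Scheme.Modules.pullback (pullback.fst f f)).obj
        ((Scheme.Modules.pushforward i₁).obj (Coh.structureModule Y₁)))).obj
        ((Scheme.Modules.pullback (pullback.snd f f)).obj ((Scheme.Modules.pushforward i₂).obj (Coh.structureModule Y₂))) ≅
      (Scheme.Modules.pushforward m).obj (Coh.structureModule (pullback (i₁ ≫ f) (i₂ ≫ f)))) := by
  let p₁ := pullback.fst f f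
  let p₂ := pullback.snd f f
  let j₁ : pullback i₁ p₁ ⟶ pullback f f := pullback.snd i₁ p₁
  let j₂ : pullback i₂ p₂ ⟶ pullback f f := pullback.snd i₂ p₂
  let A := (Scheme.Modules.pullback p₁).obj ((Scheme.Modules.pushforward i₁).obj (Coh.structureModule Y₁))
  let B := (Scheme.Modules.pullback p₂).obj ((Scheme.Modules.pushforward i₂).obj (Coh.structureModule Y₂))
  obtain ⟨eA⟩ := nonempty_pullback_push (IsPullback.of_hasPullback i₁ p₁)
  obtain ⟨eB⟩ := nonempty_pullback_push (IsPullback.of_hasPullback i₂ p₂)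
  let k : pullback j₂ j₁ ⟶ pullback i₁ p₁ := pullback.snd j₂ j₁
  obtain ⟨eB'⟩ := nonempty_pullback_push (IsPullback.of_hasPullback j₂ j₁)
  haveI := ProjFormula.isIso_unit_of_killed j₁
    (killed_tensorRightMod j₁ (killed_iso j₁ eA.symm (ProjFormula.killed_push j₁ _)) B)
  haveI := ProjFormula.isIso_counit_of_isClosedImmersion j₁ (Coh.structureModule (pullback i₁ p₁))
  let eA' : (Scheme.Modules.pullback j₁).obj A ≅ Coh.structureModule (pullback i₁ p₁) :=
    (Scheme.Modules.pullback j₁).mapIso eA ≪≫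
      @asIso _ _ _ _ ((ProjFormula.adj j₁).counit.app (Coh.structureModule (pullback i₁ p₁))) inferInstance
  let eM : (Scheme.Modules.pullback j₁).obj ((DCoh.tensorRightMod A).obj B) ≅ (Scheme.Modules.pushforward k).obj
      (Coh.structureModule (pullback j₂ j₁)) :=
    (Scheme.Modules.pullback j₁).mapIso ((tensorRightModIso A).app B) ≪≫ (pullTensorLIso j₁ A).app B ≪≫
      (((DCoh.tensorBi (X := pullback i₁ p₁)).flip.mapIso eA').app ((Scheme.Modules.pullback j₁).obj B)) ≪≫
      (ProjFormula.ρ (pullback i₁ p₁)).app ((Scheme.Modules.pullback j₁).obj B) ≪≫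
      (Scheme.Modules.pullback j₁).mapIso eB ≪≫ eB'
  obtain ⟨a, ha, ham⟩ := exists_isIso (IsPullback.of_hasPullback f f) (IsPullback.of_hasPullback i₁ p₁)
    (IsPullback.of_hasPullback i₂ p₂) (IsPullback.of_hasPullback j₂ j₁) (IsPullback.of_hasPullback (i₁ ≫ f) (i₂ ≫ f))
    m hm₁ hm₂
  haveI := ha
  obtain ⟨ea⟩ := nonempty_push_structure_of_isIso a
  exact ⟨@asIso _ _ _ _ ((ProjFormula.adj j₁).unit.app ((DCoh.tensorRightMod A).obj B)) inferInstance ≪≫
    (Scheme.Modules.pushforward j₁).mapIso eM ≪≫ (Scheme.Modules.pushforwardComp k j₁).app _ ≪≫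
    (Scheme.Modules.pushforward (k ≫ j₁)).mapIso ea.symm ≪≫ (Scheme.Modules.pushforwardComp a (k ≫ j₁)).app _ ≪≫
    (Scheme.Modules.pushforwardCongr ham).app _⟩

end Groth.Agent.H17.DiagTensor
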