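import Groth.Agent.H17.FourierMukai.FlatKernel
import Groth.Agent.H16Derived.Dual.Main
import Groth.Agent.H16Derived.KFlat.SheafAssoc
import Groth.Agent.H16Derived.KFlat.PerfConcD
import Groth.Agent.H28Int.FieldExt
import Groth.Agent.H16Derived.BaseChange.RelFlatPull
import Groth.Agent.H06EGA9.StructureStalk

/-!
# Derived pullback along sections and flat tensor products
-/

set_option autoImplicit false
set_option linter.style.haveILetI false
set_option maxHeartbeats 1000000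
set_option synthInstance.maxHeartbeats 400000

universe u

open CategoryTheory CategoryTheory.Limits AlgebraicGeometry
open Groth.Agent.H16Derived Groth.Agent.H16Derived.KFlat Groth.Agent.H16Derived.KFlat.Stalk

attribute [local instance] HasDerivedCategory.standard

namespace Groth.Agent.H17.DiagTensor

variable {X Y Z : Scheme.{u}}

/-- `Lf^*M ⊗^L G` is `f^*M ⊗ G` for `G` flat over the base. -/
theorem nonempty_lpull_ltensorMod_inD (f : X ⟶ Y) [DCoh.HasLpull f] (G : X.Modules) [DCoh.HasLTensorMod G]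
    (hflat : FlatMod.IsFlatOver f G) (M : Y.Modules) :
    Nonempty ((DCoh.LTensorMod G).obj ((DCoh.Lpull f).obj (DCoh.inD Y M)) ≅
      DCoh.inD X ((DCoh.tensorRightMod G).obj ((Scheme.Modules.pullback f).obj M))) := by
  let K₀ := (CochainComplex.singleFunctor Y.Modules 0).obj M
  let Φ := Scheme.Modules.pullback f ⋙ DCoh.tensorRightMod G
  haveI : (DCoh.tensorRightMod G).Additive := inferInstance
  haveI : Φ.Additive := inferInstance
  have hexact : ∀ W : CochainComplex Y.Modules ℤ, W.Acyclic →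
      ((Φ.mapHomologicalComplex (ComplexShape.up ℤ)).obj W).Acyclic := fun W hW i => by
    have hi : (W.sc i).Exact := (HomologicalComplex.exactAt_iff _ _).1 (hW i)
    have hT : (((W.sc i).map (Scheme.Modules.pullback f)).map (DCoh.tensorRightMod G)).Exact :=
      (exact_iff _).2 fun x => FourierMukai.exact_stalk_pullback_tensor f G x (hflat x) (W.sc i) hi
    rw [HomologicalComplex.exactAt_iff]
    refine ShortComplex.exact_of_iso (S₁ := ((W.sc i).map (Scheme.Modules.pullback f)).map (DCoh.tensorRightMod G))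
      (ShortComplex.isoMk (Iso.refl _) (Iso.refl _) (Iso.refl _) ?_ ?_) hT
    · exact (Category.id_comp _).trans (Category.comp_id _).symm
    · exact (Category.id_comp _).trans (Category.comp_id _).symm
  let P := (res (X := Y)).obj K₀
  let π : P ⟶ K₀ := (resψ (X := Y)).app K₀
  haveI hπ : QuasiIso π := quasiIso_resψ K₀
  haveI := isIso_Q_map _ hπ
  have hP : kflat Y P := isKFlat_res K₀
  let eP : DCoh.toD Y P ≅ DCoh.inD Y M :=
    asIso (DerivedCategory.Q.map π) ≪≫ ((DerivedCategory.singleFunctorIsoCompQ Y.Modules 0).app M).symm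
  haveI : QuasiIso ((Φ.mapHomologicalComplex (ComplexShape.up ℤ)).map π) :=
    quasiIso_map_of_cone Φ π (hexact _)
  haveI hiso := isIso_Q_map ((Φ.mapHomologicalComplex (ComplexShape.up ℤ)).map π) inferInstance
  let PP := ((Scheme.Modules.pullback f).mapHomologicalComplex (ComplexShape.up ℤ)).obj P
  let e₁ : (DCoh.Lpull f).obj (DCoh.inD Y M) ≅ DCoh.toD X PP :=
    (DCoh.Lpull f).mapIso eP.symm ≪≫ lpullObjIso f P hP
  have hPP : lkflat X PP := fun L hL => KFlat.acyclic_of_iso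
        (KFlat.totFlipIso (F := DCoh.tensorBi (X := X)) PP L ≪≫ Dual.braidC PP L).symm
        (isKFlat_pullback f hP L hL)
  let e₂ : (DCoh.LTensorMod G).obj (DCoh.toD X PP) ≅
      DCoh.toD X (((DCoh.tensorRightMod G).mapHomologicalComplex (ComplexShape.up ℤ)).obj PP) :=
    ltensorModObjIso G PP hPP
  let c : ((DCoh.tensorRightMod G).mapHomologicalComplex (ComplexShape.up ℤ)).obj PP ≅
      (Φ.mapHomologicalComplex (ComplexShape.up ℤ)).obj P :=
    HomologicalComplex.Hom.isoOfComponents (fun _ => Iso.refl _)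
      (fun i j _ => (Category.id_comp _).trans (Category.comp_id _).symm)
  let e₃ : DerivedCategory.Q.obj ((Φ.mapHomologicalComplex (ComplexShape.up ℤ)).obj P) ≅
      DerivedCategory.Q.obj ((Φ.mapHomologicalComplex (ComplexShape.up ℤ)).obj K₀) :=
    @asIso _ _ _ _ (DerivedCategory.Q.map ((Φ.mapHomologicalComplex (ComplexShape.up ℤ)).map π)) hiso
  let e₄ : DerivedCategory.Q.obj ((Φ.mapHomologicalComplex (ComplexShape.up ℤ)).obj K₀) ≅
      DCoh.inD X (Φ.obj M) :=
    DerivedCategory.Q.mapIso ((HomologicalComplex.singleMapHomologicalComplex Φ (ComplexShape.up ℤ) 0).app M) ≪≫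
    ((DerivedCategory.singleFunctorIsoCompQ X.Modules 0).app (Φ.obj M)).symm
  exact ⟨(DCoh.LTensorMod G).mapIso e₁ ≪≫ e₂ ≪≫ DerivedCategory.Q.mapIso c ≪≫ e₃ ≪≫ e₄⟩

/-- The right unit for `- ⊗^L O`. -/
theorem nonempty_T_structure (E : DCoh.D X) :
    Nonempty (((Dual.T X).obj E).obj (DCoh.inD X (Coh.structureModule X)) ≅ E) :=
  ⟨((Dual.T X).obj E).mapIso ((DerivedCategory.singleFunctorIsoCompQ X.Modules 0).app (Coh.structureModule X)) ≪≫
    (Dual.rightUnit X).app E⟩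

/-- The derived pullback along a flat morphism of a module. -/
theorem nonempty_lpull_inD (f : X ⟶ Y) [DCoh.HasLpull f] [Flat f] (M : Y.Modules) :
    Nonempty ((DCoh.Lpull f).obj (DCoh.inD Y M) ≅ DCoh.inD X ((Scheme.Modules.pullback f).obj M)) := by
  haveI := hasLTensorMod (Coh.structureModule X)
  obtain ⟨e₁⟩ := nonempty_lpull_ltensorMod_inD f (Coh.structureModule X)
    (fun x => (H06EGA9.isFlatOverAt_structureModule_iff f x).2 (Flat.stalkMap f x)) M
  obtain ⟨e₂⟩ := ProperSupp.nonempty_ltensorMod_iso ((DCoh.Lpull f).obj (DCoh.inD Y M)) (Coh.structureModule X)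
  obtain ⟨e₃⟩ := nonempty_T_structure ((DCoh.Lpull f).obj (DCoh.inD Y M))
  exact ⟨e₃.symm ≪≫ e₂.symm ≪≫ e₁ ≪≫ (DerivedCategory.singleFunctor X.Modules 0).mapIso
    ((tensorRightModIso (Coh.structureModule X) ≪≫ ProjFormula.ρ X).app _)⟩

/-- Pulling back a complex along a section of a morphism. -/
noncomputable def pullSectionIso (s : Y ⟶ X) (p : X ⟶ Y) (h : s ≫ p = 𝟙 Y) (P : CochainComplex Y.Modules ℤ) :
    ((Scheme.Modules.pullback s).mapHomologicalComplex (ComplexShape.up ℤ)).obj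
        (((Scheme.Modules.pullback p).mapHomologicalComplex (ComplexShape.up ℤ)).obj P) ≅ P :=
  pullbackCompCxIso s p P ≪≫
    (NatIso.mapHomologicalComplex (Scheme.Modules.pullbackCongr h ≪≫ Scheme.Modules.pullbackId Y) (ComplexShape.up ℤ)).app P ≪≫
    (Functor.mapHomologicalComplexIdIso _ _).app P

/-- Derived tensor through a diagonal. -/
theorem nonempty_ltensorMod_iso_lpull (s : Y ⟶ X) (p₁ p₂ : X ⟶ Y) (h₁ : s ≫ p₁ = 𝟙 Y) (h₂ : s ≫ p₂ = 𝟙 Y)
    [DCoh.HasLpull s] [Flat p₁] (A B : Y.Modules) [DCoh.HasLTensorMod B]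
    (hflat : FlatMod.IsFlatOver p₂ ((Scheme.Modules.pullback p₁).obj A)) :
    Nonempty ((DCoh.LTensorMod B).obj (DCoh.inD Y A) ≅
      (DCoh.Lpull s).obj (DCoh.inD X ((DCoh.tensorRightMod ((Scheme.Modules.pullback p₁).obj A)).obj
        ((Scheme.Modules.pullback p₂).obj B)))) := by
  haveI := hasLpull p₁
  haveI := hasLpull p₂
  obtain ⟨RA, hA, ⟨eA⟩⟩ := exists_kflat_rep (DCoh.inD Y A)
  obtain ⟨RB, hB, ⟨eB⟩⟩ := exists_kflat_rep (DCoh.inD Y B)
  let P₂ := ((Scheme.Modules.pullback p₂).mapHomologicalComplex (ComplexShape.up ℤ)).obj RB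
  let P₂' := ((Scheme.Modules.pullback s).mapHomologicalComplex (ComplexShape.up ℤ)).obj P₂
  have hP₂ : DCoh.IsKFlat P₂ := (isKFlat_iff' _).2 (isKFlat_pullback p₂ hB)
  haveI := hasLTensorCx P₂
  haveI := hasLTensorCx P₂'
  let LA := (DCoh.Lpull p₁).obj (DCoh.inD Y A)
  let LB := (DCoh.Lpull p₂).obj (DCoh.inD Y B)
  let eLB : LB ≅ DCoh.toD X P₂ := (DCoh.Lpull p₂).mapIso eB.symm ≪≫ lpullObjIso p₂ RB hB
  obtain ⟨eN⟩ := nonempty_lpull_ltensorCx s P₂ hP₂ LA
  let sA : (DCoh.Lpull s).obj LA ≅ DCoh.inD Y A :=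
    (DCoh.Lpull s).mapIso ((DCoh.Lpull p₁).mapIso eA.symm ≪≫ lpullObjIso p₁ RA hA) ≪≫
      lpullObjIso s _ (isKFlat_pullback p₁ hA) ≪≫ DerivedCategory.Q.mapIso (pullSectionIso s p₁ h₁ RA) ≪≫ eA
  let sB : DCoh.toD Y P₂' ≅ DCoh.inD Y B := DerivedCategory.Q.mapIso (pullSectionIso s p₂ h₂ RB) ≪≫ eB
  obtain ⟨e₀⟩ := ProperSupp.nonempty_ltensorMod_iso (DCoh.inD Y A) B
  haveI := hasLTensorMod ((Scheme.Modules.pullback p₁).obj A)
  obtain ⟨e₁⟩ := nonempty_lpull_ltensorMod_inD p₂ ((Scheme.Modules.pullback p₁).obj A) hflat B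
  obtain ⟨e₂⟩ := ProperSupp.nonempty_ltensorMod_iso LB ((Scheme.Modules.pullback p₁).obj A)
  obtain ⟨e₃⟩ := nonempty_lpull_inD p₁ A
  exact ⟨e₀ ≪≫ ((Dual.T Y).mapIso sA.symm).app _ ≪≫ ((Dual.T Y).obj _).mapIso sB.symm ≪≫
    (Dual.ltensorCxIsoT P₂').app _ ≪≫ eN.symm ≪≫ (DCoh.Lpull s).mapIso
      (((Dual.ltensorCxIsoT P₂).app LA).symm ≪≫ ((Dual.T X).obj LA).mapIso eLB.symm ≪≫ Dual.σ LA LB ≪≫
        ((Dual.T X).obj LB).mapIso e₃ ≪≫ e₂.symm ≪≫ e₁)⟩

end Groth.Agent.H17.DiagTensor
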